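import Groth.Agent.Lib.PicH1.Thick
import Groth.Prelude.Def_Coh

/-!
# Torsion classes killed by a first order thickening
-/

set_option autoImplicit false
set_option linter.all false
set_option backward.isDefEq.respectTransparency false

universe u

open CategoryTheory CategoryTheory.Limits AlgebraicGeometry TopologicalSpace Opposite
open GrothLib.UnitsThick26 GrothLib.PicH1

noncomputable section

namespace GrothLib.TorsPic29

theorem eq_zero_of_nsmul {A : Type u} [CommRing A] {X : Scheme.{u}} [X.Over (Spec (CommRingCat.of A))]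
    (F : X.Modules) {h : ℕ} (hh : IsUnit (h : A)) (z : Coh.HH X F 1) (hz : h • z = 0) : z = 0 := by
  obtain ⟨u, hu⟩ := hh
  rw [← one_smul A z, ← u.inv_mul, mul_smul, hu, Nat.cast_smul_eq_nsmul, hz, smul_zero]

/-- Torsion of invertible order which dies on a square zero subscheme is zero, if the units there have roots. -/
theorem eq_one_of_torsion_step {A : Type u} [CommRing A] {Z Z' : Scheme.{u}} [Z'.Over (Spec (CommRingCat.of A))]
    (c : Z ⟶ Z') [IsClosedImmersion c] (hc : IsSqZero c) {h : ℕ} (hh : IsUnit (h : A))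
    (hdiv : ∀ v : (Γ(Z, ⊤))ˣ, ∃ w, w ^ h = v) (p : Cube.Pic Z') (hph : p ^ h = 1) (hp : Cube.pull c p = 1) :
    p = 1 := by
  obtain ⟨x, rfl⟩ := (toPicHG_bijective Z').2 p
  rw [← toPicPushHG_comap] at hp
  have h' : HGmap (UnitsSh.comap c) 1 x.toAdd = 0 :=
    congrArg Multiplicative.toAdd (toPicPushHG_injective c (hp.trans (map_one _).symm))
  obtain ⟨(y : HG (Coh.toAb (kerMod c)) 1), hy⟩ := (HG_exact₂ (thickSeq_shortExact hc) 1 x.toAdd).1 h'
  have hx : h • x.toAdd = 0 :=
    congrArg Multiplicative.toAdd ((toPicHG_bijective Z').1 (((map_pow _ x h).trans hph).trans (map_one _).symm))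
  have h1 : HGmap (thickSeq hc).f 1 (h • y) = 0 := (map_nsmul _ h y).trans ((congrArg (h • ·) hy).trans hx)
  obtain ⟨z, hz⟩ := (HG_exact₁ (thickSeq_shortExact hc) 0 1 rfl _).1 h1
  let v : (Γ(Z, ⊤))ˣ := UnitsSh.unitOfSect (O := Z.presheaf) (HG0 (thickSeq hc).X₃ z)
  obtain ⟨w, hw⟩ := hdiv v
  have hv : (conn0 hc v).toAdd = h • y := (congrArg _ (AddEquiv.symm_apply_apply _ z)).trans hz
  have hw' : (conn0 hc v).toAdd = h • (conn0 hc w).toAdd := by rw [← hw, map_pow]; rfl
  have h0 : h • (y - (conn0 hc w).toAdd) = 0 := (smul_sub h y _).trans (sub_eq_zero.2 (hv.symm.trans hw'))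
  have hy0 : y - (conn0 hc w).toAdd = 0 := eq_zero_of_nsmul (kerMod c) hh _ h0
  have hx0 : x.toAdd = 0 := by
    rw [← hy, sub_eq_zero.1 hy0]
    exact (HG_exact₁ (thickSeq_shortExact hc) 0 1 rfl _).2 ⟨_, rfl⟩
  exact (congrArg _ (congrArg Multiplicative.ofAdd hx0)).trans (map_one _)

end GrothLib.TorsPic29
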