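import Groth.Agent.Lib.TorsPic29.Root
import Groth.Agent.Lib.TorsPic29.Step
import Groth.Agent.Lib.LefPic7.Step
import Groth.Agent.Lib.PicThick26.Complete
import Groth.Agent.Lib.Contract29.Generators
import Groth.Agent.Lib.Contract29.AmpleCover
import Groth.Agent.S0002
import Groth.Agent.Lib.Contract29.Base
import Mathlib.RingTheory.HopkinsLevitzki

/-!
# Torsion invertible modules of invertible order are determined by the closed fibre
-/

set_option autoImplicit false
set_option linter.all false
set_option backward.isDefEq.respectTransparency false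

universe u

open CategoryTheory CategoryTheory.Limits AlgebraicGeometry TopologicalSpace Opposite IsLocalRing
open GrothLib.RatSing29 (gOn)

noncomputable section

namespace GrothLib.TorsPic29

variable {A : Type u} [CommRing A] [IsLocalRing A] [IsNoetherianRing A]

/-- Functions on a closed subscheme of a proper scheme lying over the closed point form an Artinian algebra. -/
theorem exists_units_root [IsAlgClosed (ResidueField A)] {Z : Scheme.{u}} (g : Z ⟶ Spec (CommRingCat.of A))
    [IsProper g] (hg : ∀ z, g z = closedPoint A) {h : ℕ} (hh : IsUnit (h : A)) (v : (Γ(Z, ⊤))ˣ) :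
    ∃ w, w ^ h = v := by
  letI : Z.Over (Spec (CommRingCat.of A)) := ⟨g⟩
  haveI : IsProper (Z ↘ Spec (CommRingCat.of A)) := ‹IsProper g›
  haveI : IsLocallyNoetherian Z := LocallyOfFiniteType.isLocallyNoetherian g
  haveI : CompactSpace Z := (quasiCompact_iff_compactSpace g).1 inferInstance
  haveI : Module.Finite A (Coh.HH Z (Coh.structureModule Z) 0) :=
    Groth.Agent.S0002.result A Z _ (HomSh.isCoh_structureModule Z) 0
  letI : Algebra A Γ(Z, ⊤) := (Coh.toGlobal (Z ↘ Spec (CommRingCat.of A))).toAlgebra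
  let η : Coh.HH Z (Coh.structureModule Z) 0 →ₗ[A] Γ(Z, ⊤) :=
    { toFun := fun z => ProjCoh.H0top (Coh.structureModule Z) z
      map_add' := fun a b => map_add (ProjCoh.H0top (Coh.structureModule Z)) a b
      map_smul' := fun a z => by
        rw [ProjCoh.H0top_smul]
        rfl }
  haveI : Module.Finite A Γ(Z, ⊤) := Module.Finite.of_surjective η (ProjCoh.H0top (Coh.structureModule Z)).surjective
  haveI : IsNoetherianRing Γ(Z, ⊤) := IsNoetherianRing.of_finite A _
  haveI : Algebra.IsIntegral A Γ(Z, ⊤) := inferInstance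
  have hnil : ∀ r ∈ maximalIdeal A, IsNilpotent (algebraMap A Γ(Z, ⊤) r) := fun r hr => by
    refine (Scheme.isNilpotent_iff_basicOpen_eq_bot _).2 (eq_bot_iff.2 fun p hp => ?_)
    change p ∈ Z.basicOpen (g.appTop ((Scheme.ΓSpecIso (CommRingCat.of A)).inv r)) at hp
    rw [← Scheme.preimage_basicOpen_top] at hp
    have hp' : g p ∈ (Spec (CommRingCat.of A)).basicOpen ((Scheme.ΓSpecIso (CommRingCat.of A)).inv r) := hp
    rw [basicOpen_eq_of_affine, hg p] at hp'
    exact hp' hr
  haveI : IsArtinianRing Γ(Z, ⊤) := by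
    rw [isArtinianRing_iff_krullDimLE_zero]
    refine Ring.krullDimLE_zero_iff.2 fun p hp => ?_
    refine Ideal.isMaximal_of_isIntegral_of_isMaximal_comap (R := A) p ?_
    rw [show p.comap (algebraMap A Γ(Z, ⊤)) = maximalIdeal A from
      le_antisymm (le_maximalIdeal (Ideal.comap_ne_top _ hp.ne_top)) fun r hr =>
        hp.radical.le ((nilradical_le_prime p).trans Ideal.le_radical (mem_nilradical.2 (hnil r hr)))]
    exact maximalIdeal.isMaximal A
  obtain ⟨w, hw⟩ := exists_pow_eq (A := A) v.isUnit hh
  have hwu : IsUnit w := (isUnit_pow_iff (fun e => by rw [e, Nat.cast_zero] at hh; exact not_isUnit_zero hh)).1 (hw ▸ v.isUnit)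
  exact ⟨hwu.unit, Units.ext (by rw [Units.val_pow_eq_pow_val, IsUnit.unit_spec, hw])⟩

variable [IsAlgClosed (ResidueField A)] {X : Scheme.{u}} (f : X ⟶ Spec (CommRingCat.of A)) [IsProper f]
  (I : X.IdealSheafData) (hI : (I.support : Set X) = {x | f x = closedPoint A}) {h : ℕ} (hh : IsUnit (h : A))
  (p : Cube.Pic X) (hph : p ^ h = 1) (hp : Cube.pull I.subschemeι p = 1)
include hI hh hph hp

theorem pull_pow_eq_one (n : ℕ) : Cube.pull (I ^ (n + 1)).subschemeι p = 1 := by
  induction n with
  | zero =>
    have key : ∀ J : X.IdealSheafData, J = I → Cube.pull J.subschemeι p = 1 := by rintro _ rfl; exact hp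
    exact key _ (pow_one I)
  | succ n ih =>
    letI : (I ^ (n + 2)).subscheme.Over (Spec (CommRingCat.of A)) := ⟨(I ^ (n + 2)).subschemeι ≫ f⟩
    refine eq_one_of_torsion_step (A := A) (LefPic7.step I n) (LefPic7.isSqZero_step I n) hh ?_ _
      (by rw [← map_pow, hph, map_one]) ?_
    · refine exists_units_root ((I ^ (n + 1)).subschemeι ≫ f) (fun z => ?_) hh
      have hz : (I ^ (n + 1)).subschemeι z ∈ ((I ^ (n + 1)).support : Set X) := by
        rw [← Scheme.IdealSheafData.range_subschemeι]; exact ⟨z, rfl⟩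
      rw [Scheme.IdealSheafData.support_pow_succ, hI] at hz
      exact hz
    · rw [Cube.pull_comp, Scheme.IdealSheafData.inclusion_subschemeι]
      exact ih

theorem eq_one : p = 1 := by
  letI : X.Over (Spec (CommRingCat.of A)) := ⟨f⟩
  haveI : IsProper (X ↘ Spec (CommRingCat.of A)) := ‹IsProper f›
  obtain ⟨L, hL, hLp⟩ := Contract29.exists_mod p
  subst hLp
  refine (Cube.clsMod_eq_one_iff hL).2 (PicThick26.nonempty_iso_of_thicks f hL fun k => ?_)
  have hfib : Set.range I.subschemeι =
      {x | maximalIdeal A ≤ ((X ↘ Spec (CommRingCat.of A)) x).asIdeal} := by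
    rw [Scheme.IdealSheafData.range_subschemeι, hI]
    ext x
    refine ⟨fun e => ?_, fun e => ?_⟩
    · show maximalIdeal A ≤ (f x).asIdeal
      rw [show f x = closedPoint A from e]
      exact le_rfl
    · exact PrimeSpectrum.ext ((maximalIdeal.isMaximal A).eq_of_le (f x).isPrime.ne_top e).symm
  obtain ⟨N, hN⟩ := Contract29.exists_pow_le I.subschemeι (maximalIdeal A) hfib
  let J := maximalIdeal A ^ (k + 1)
  let i := UnitsThick26.imm f J
  haveI : IsClosedImmersion i := UnitsThick26.isClosedImmersion_imm f J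
  have hkill : ∀ r ∈ J, i.appTop (Coh.toGlobal f r) = 0 := fun r hr => by
    show i.appTop (f.appTop ((Scheme.ΓSpecIso (CommRingCat.of A)).inv r)) = 0
    rw [← CommRingCat.comp_apply f.appTop, ← Scheme.Hom.comp_appTop,
      show i ≫ f = pullback.snd _ _ ≫ Spec.map (CommRingCat.ofHom (Ideal.Quotient.mk J)) from pullback.condition,
      Scheme.Hom.comp_appTop, CommRingCat.comp_apply,
      ← CommRingCat.comp_apply (Scheme.ΓSpecIso (CommRingCat.of A)).inv, ← Scheme.ΓSpecIso_inv_naturality,
      CommRingCat.comp_apply, CommRingCat.ofHom_apply, Ideal.Quotient.eq_zero_iff_mem.2 hr, map_zero, map_zero]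
  have hle : I ^ (N * (k + 1) + 1) ≤ i.ker := fun U => by
    show (I ^ (N * (k + 1) + 1)).ideal U ≤ i.ker.ideal U
    have h1 : I.ideal U ^ N ≤ (maximalIdeal A).map (Contract29.gHom X U.1) := by
      have h0 := hN U
      rw [Scheme.IdealSheafData.ker_subschemeι] at h0
      exact h0
    rw [RatSing29.ideal_pow_eq, pow_succ, pow_mul]
    refine (Ideal.mul_le_left).trans ((Ideal.pow_right_mono h1 _).trans ?_)
    rw [← Ideal.map_pow, Ideal.map_le_iff_le_comap]
    intro r hr
    rw [Ideal.mem_comap, Contract29.gHom_apply, Scheme.Hom.ker_apply, RingHom.mem_ker]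
    show i.app U.1 (X.presheaf.map (homOfLE (le_top : U.1 ≤ ⊤)).op _) = 0
    rw [← CommRingCat.comp_apply (X.presheaf.map _) (i.app U.1), i.naturality, CommRingCat.comp_apply]
    show _ = (0 : Γ(UnitsThick26.sub f J, i ⁻¹ᵁ U.1))
    erw [hkill r hr]
    exact map_zero _
  let n := N * (k + 1)
  haveI : IsClosedImmersion (I ^ (n + 1)).subschemeι := inferInstance
  let l := IsClosedImmersion.lift (I ^ (n + 1)).subschemeι i (by rw [Scheme.IdealSheafData.ker_subschemeι]; exact hle)
  show Cube.pull i _ = 1
  rw [← IsClosedImmersion.lift_fac (I ^ (n + 1)).subschemeι i (by rw [Scheme.IdealSheafData.ker_subschemeι]; exact hle),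
    ← Cube.pull_comp, pull_pow_eq_one f I hI hh _ hph hp n, map_one]

end GrothLib.TorsPic29
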