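import Groth.Agent.Lib.TorsPic29.Step
import Groth.Agent.Lib.Lift7.Lines
import Groth.Agent.Lib.Lift7.Adic
import Groth.Agent.Lib.PicFormal26.Main
import Groth.Agent.Lib.PicThick26.Complete
import Groth.Agent.Lib.Contract29.AmpleCover
import Groth.Agent.Lib.UnifVanish7.Spanned

/-!
# Divisibility of the kernel of the restriction to the closed fibre
-/

set_option autoImplicit false
set_option linter.all false
set_option backward.isDefEq.respectTransparency false

universe u

open CategoryTheory CategoryTheory.Limits AlgebraicGeometry TopologicalSpace IsLocalRing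
open GrothLib.UnitsThick26 GrothLib.PicH1

noncomputable section

namespace GrothLib.TorsPic29

/-- A class dying on a square zero subscheme has roots of invertible order dying there. -/
theorem exists_root_step {A : Type u} [CommRing A] {Z Z' : Scheme.{u}} [Z'.Over (Spec (CommRingCat.of A))]
    (c : Z ⟶ Z') [IsClosedImmersion c] (hc : IsSqZero c) {q : ℕ} (hq : IsUnit (q : A))
    (x : Cube.Pic Z') (hx : Cube.pull c x = 1) : ∃ y, Cube.pull c y = 1 ∧ y ^ q = x := by
  obtain ⟨x, rfl⟩ := (toPicHG_bijective Z').2 x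
  rw [← toPicPushHG_comap] at hx
  have h' : HGmap (UnitsSh.comap c) 1 x.toAdd = 0 :=
    congrArg Multiplicative.toAdd (toPicPushHG_injective c (hx.trans (map_one _).symm))
  obtain ⟨(y : HG (Coh.toAb (kerMod c)) 1), hy⟩ := (HG_exact₂ (thickSeq_shortExact hc) 1 x.toAdd).1 h'
  obtain ⟨u, hu⟩ := hq
  let w : Coh.HH Z' (kerMod c) 1 := ((u⁻¹ : Aˣ) : A) • (show Coh.HH Z' (kerMod c) 1 from y)
  have hw : q • w = (show Coh.HH Z' (kerMod c) 1 from y) := by
    rw [← Nat.cast_smul_eq_nsmul A, ← hu, smul_smul, Units.mul_inv, one_smul]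
  let z := HGmap (thickSeq hc).f 1 (show HG (Coh.toAb (kerMod c)) 1 from w)
  refine ⟨toPicHG Z' (Multiplicative.ofAdd z), ?_, ?_⟩
  · rw [← toPicPushHG_comap]
    have h0 : HGmap (UnitsSh.comap c) 1 z = 0 := (HG_exact₂ (thickSeq_shortExact hc) 1 z).2 ⟨_, rfl⟩
    exact (congrArg _ (congrArg Multiplicative.ofAdd h0)).trans (map_one _)
  · refine (map_pow (toPicHG Z') _ q).symm.trans (congrArg _ ?_)
    refine Multiplicative.toAdd.injective ?_
    show q • z = x.toAdd
    exact ((map_nsmul (HGmap (thickSeq hc).f 1) q _).symm.trans (congrArg _ hw)).trans hy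

/-- A base change of a square zero closed immersion of affine schemes is square zero. -/
theorem isSqZero_of_pullback_sq {A L : Type u} [CommRing A] [CommRing L] {X Y : Scheme.{u}}
    {g : X ⟶ Spec (CommRingCat.of A)} {j : Y ⟶ X} {p : Y ⟶ Spec (CommRingCat.of L)} {φ : A →+* L}
    [IsClosedImmersion j] (H : IsPullback j p g (Spec.map (CommRingCat.ofHom φ))) (hφ : Function.Surjective φ)
    (h0 : RingHom.ker φ * RingHom.ker φ = ⊥) : IsSqZero j := by
  refine isSqZero_of_affine j fun V hV a b ha hb => ?_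
  have e1 : RingHom.ker (j.app V).hom = (RingHom.ker φ).map (GrothLib.Cube.cst g V) :=
    ker_app_of_isPullback H hφ hV
  have hab : a * b ∈ (RingHom.ker φ).map (GrothLib.Cube.cst g V) * (RingHom.ker φ).map (GrothLib.Cube.cst g V) :=
    Ideal.mul_mem_mul (e1 ▸ ha) (e1 ▸ hb)
  rw [← Ideal.map_mul, h0, Ideal.map_bot, Ideal.mem_bot] at hab
  exact hab

variable {A : Type u} [CommRing A] [IsLocalRing A] [IsNoetherianRing A] [IsAdicComplete (maximalIdeal A) A]
  {X : Scheme.{u}} (f : X ⟶ Spec (CommRingCat.of A)) [IsProper f] [Flat f]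

/-- The kernel of the restriction to the closed fibre is divisible by invertible integers. -/
theorem exists_root_of_pull_eq_one
    (h2 : Subsingleton (Coh.HH (pullback f (Spec.map (CommRingCat.ofHom (residue A)))) (Coh.structureModule _) 2))
    {q : ℕ} (hq : IsUnit (q : A)) (c : Cube.Pic X)
    (hc : Cube.pull (pullback.fst f (Spec.map (CommRingCat.ofHom (residue A)))) c = 1) :
    ∃ y : Cube.Pic X, Cube.pull (pullback.fst f (Spec.map (CommRingCat.ofHom (residue A)))) y = 1 ∧ y ^ q = c := by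
  let m := IsLocalRing.maximalIdeal A
  let Xs : ℕ → Scheme.{u} := fun n => pullback f (CohB1.specQuot m n)
  let p : ∀ n, Xs n ⟶ Spec (CommRingCat.of (A ⧸ m ^ (n + 1))) := fun n => pullback.snd _ _
  let e : ∀ n, Xs n ⟶ X := fun n => pullback.fst _ _
  let i : ∀ n, Xs n ⟶ Xs (n + 1) := fun n => pullback.lift (e n) (p n ≫ CohB1.specQuotTrans m n)
    (by rw [Category.assoc, GrothLib.UnifVanish7.specQuotTrans_specQuot]; exact pullback.condition)
  have hie : ∀ n, i n ≫ e (n + 1) = e n := fun n => pullback.lift_fst _ _ _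
  have hcart : ∀ n, IsPullback (i n) (p n) (p (n + 1)) (CohB1.specQuotTrans m n) := fun n => by
    refine IsPullback.of_right ?_ (pullback.lift_snd _ _ _) (IsPullback.of_hasPullback f (CohB1.specQuot m (n + 1)))
    rw [show i n ≫ pullback.fst f (CohB1.specQuot m (n + 1)) = e n from hie n,
      GrothLib.UnifVanish7.specQuotTrans_specQuot]
    exact IsPullback.of_hasPullback _ _
  let φ₀ : ResidueField A →+* A ⧸ m ^ (0 + 1) := Ideal.Quotient.factor (by rw [zero_add, pow_one])
  haveI : Nontrivial (A ⧸ m ^ (0 + 1)) := by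
    have := GrothLib.Lift7.isLocalRing_quot_pow (A := A) 0
    infer_instance
  have hφb : Function.Bijective φ₀ := by
    refine ⟨φ₀.injective, fun y => ?_⟩
    obtain ⟨a, rfl⟩ := Ideal.Quotient.mk_surjective y
    exact ⟨residue A a, rfl⟩
  haveI : IsIso (Spec.map (CommRingCat.ofHom φ₀)) := by
    haveI : IsIso (CommRingCat.ofHom φ₀) := (ConcreteCategory.isIso_iff_bijective _).2 hφb
    infer_instance
  have hres : Spec.map (CommRingCat.ofHom φ₀) ≫ Spec.map (CommRingCat.ofHom (residue A)) = CohB1.specQuot m 0 := by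
    rw [← Spec.map_comp]
    rfl
  let d : Xs 0 ⟶ pullback f (Spec.map (CommRingCat.ofHom (residue A))) :=
    pullback.lift (e 0) (p 0 ≫ Spec.map (CommRingCat.ofHom φ₀))
      (by rw [Category.assoc, hres]; exact pullback.condition)
  have hd : IsPullback d (p 0) (pullback.snd f (Spec.map (CommRingCat.ofHom (residue A))))
      (Spec.map (CommRingCat.ofHom φ₀)) := by
    refine IsPullback.of_right ?_ (pullback.lift_snd _ _ _) (IsPullback.of_hasPullback _ _)
    rw [show d ≫ pullback.fst _ _ = e 0 from pullback.lift_fst _ _ _, hres]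
    exact IsPullback.of_hasPullback _ _
  haveI : IsIso d := hd.isIso_fst_of_isIso
  have hde : d ≫ pullback.fst f (Spec.map (CommRingCat.ofHom (residue A))) = e 0 := pullback.lift_fst _ _ _
  have h2' := GrothLib.PicThick26.subsingleton_HH_structure_of_iso d 2 h2
  have hc0 : (1 : Cube.Pic (Xs 0)) ^ q = Cube.pull (e 0) c := by
    rw [one_pow, ← hde, ← Cube.pull_comp, hc, map_one]
  have hstep : ∀ n (x : Cube.Pic (Xs n)), x ^ q = Cube.pull (e n) c →
      ∃ x' : Cube.Pic (Xs (n + 1)), x' ^ q = Cube.pull (e (n + 1)) c ∧ Cube.pull (i n) x' = x := by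
    intro n x hx
    let B := A ⧸ m ^ (n + 1 + 1)
    haveI : IsLocalRing B := GrothLib.Lift7.isLocalRing_quot_pow (n + 1)
    haveI : IsLocalHom (Ideal.Quotient.mk (m ^ (n + 1 + 1))) := IsLocalHom.of_surjective _ Ideal.Quotient.mk_surjective
    have hmaxB : m.map (Ideal.Quotient.mk (m ^ (n + 1 + 1))) = maximalIdeal B :=
      IsLocalRing.eq_maximalIdeal (Ideal.IsMaximal.map_of_surjective_of_ker_le
        (f := Ideal.Quotient.mk (m ^ (n + 1 + 1))) (m := m) Ideal.Quotient.mk_surjective
        (by rw [Ideal.mk_ker]; exact Ideal.pow_le_self (Nat.succ_ne_zero _)))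
    haveI : IsArtinianRing B := by
      rw [isArtinianRing_iff_isNilpotent_maximalIdeal]
      exact ⟨n + 1 + 1, by rw [← hmaxB, ← Ideal.map_pow]; exact Ideal.map_quotient_self _⟩
    haveI : Flat (p (n + 1)) := MorphismProperty.pullback_snd _ _ inferInstance
    let φ : B →+* A ⧸ m ^ (n + 1) := Ideal.Quotient.factor (Ideal.pow_le_pow_right (Nat.le_succ (n + 1)))
    let ψ : B →+* A ⧸ m ^ (0 + 1) := Ideal.Quotient.factor (Ideal.pow_le_pow_right (by omega))
    have hφker : RingHom.ker φ = (m ^ (n + 1)).map (Ideal.Quotient.mk (m ^ (n + 1 + 1))) := Ideal.Quotient.factor_ker _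
    have hψker : RingHom.ker ψ = maximalIdeal B := by
      rw [← hmaxB, show RingHom.ker ψ = (m ^ (0 + 1)).map (Ideal.Quotient.mk (m ^ (n + 1 + 1))) from
        Ideal.Quotient.factor_ker _, zero_add, pow_one]
    have hspec : Spec.map (CommRingCat.ofHom ψ) ≫ CohB1.specQuot m (n + 1) = CohB1.specQuot m 0 := by
      rw [CohB1.specQuot, ← Spec.map_comp]
      rfl
    let j₀ : Xs 0 ⟶ Xs (n + 1) := pullback.lift (e 0) (p 0 ≫ Spec.map (CommRingCat.ofHom ψ))
      (by rw [Category.assoc, hspec]; exact pullback.condition)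
    have H₀ : IsPullback j₀ (p 0) (p (n + 1)) (Spec.map (CommRingCat.ofHom ψ)) := by
      refine IsPullback.of_right ?_ (pullback.lift_snd _ _ _) (IsPullback.of_hasPullback f (CohB1.specQuot m (n + 1)))
      rw [show j₀ ≫ pullback.fst f (CohB1.specQuot m (n + 1)) = e 0 from pullback.lift_fst _ _ _, hspec]
      exact IsPullback.of_hasPullback _ _
    haveI : IsLocalRing (A ⧸ m ^ (n + 1)) := GrothLib.Lift7.isLocalRing_quot_pow n
    obtain ⟨L, hL, rfl⟩ := Contract29.exists_mod x
    obtain ⟨M, hM, ⟨eM⟩⟩ := Lift7.exists_lift_step (g := p (n + 1)) φ (Ideal.Quotient.factor_surjective _)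
      (le_maximalIdeal (RingHom.ker_ne_top φ)) (hcart n) ψ (Ideal.Quotient.factor_surjective _) hψker H₀ h2' hL
    have hMx : Cube.pull (i n) (Cube.clsMod hM) = Cube.clsMod hL := by
      rw [← Cube.clsMod_pullback (i n) hM]
      exact (Cube.clsMod_eq_iff _ hL).2 ⟨eM⟩
    haveI : IsClosedImmersion (i n) := MorphismProperty.of_isPullback (hcart n).flip
      (IsClosedImmersion.spec_of_surjective _ (Ideal.Quotient.factor_surjective (Ideal.pow_le_pow_right (Nat.le_succ (n + 1)))))
    have hsq : IsSqZero (i n) := isSqZero_of_pullback_sq (hcart n) (Ideal.Quotient.factor_surjective _) (by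
      rw [hφker, ← Ideal.map_mul, ← pow_add, eq_bot_iff]
      refine (Ideal.map_mono (Ideal.pow_le_pow_right (by omega : n + 1 + 1 ≤ n + 1 + (n + 1)))).trans ?_
      rw [Ideal.map_quotient_self])
    letI : (Xs (n + 1)).Over (Spec (CommRingCat.of A)) := ⟨e (n + 1) ≫ f⟩
    have hdiff : Cube.pull (i n) (Cube.clsMod hM ^ q * (Cube.pull (e (n + 1)) c)⁻¹) = 1 := by
      rw [map_mul, map_pow, map_inv, hMx, hx, Cube.pull_comp, hie, mul_inv_cancel]
    obtain ⟨y, hy1, hy2⟩ := exists_root_step (A := A) (i n) hsq hq _ hdiff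
    refine ⟨Cube.clsMod hM * y⁻¹, ?_, by rw [map_mul, map_inv, hy1, inv_one, mul_one, hMx]⟩
    rw [mul_pow, inv_pow, hy2, mul_inv_rev, inv_inv, mul_comm (Cube.pull (e (n + 1)) c), ← mul_assoc, mul_inv_cancel, one_mul]
  choose lift hl1 hl2 using hstep
  let P : ∀ n, {x : Cube.Pic (Xs n) // x ^ q = Cube.pull (e n) c} :=
    fun n => Nat.rec ⟨1, hc0⟩ (fun n x => ⟨lift n x.1 x.2, hl1 n x.1 x.2⟩) n
  choose F hF hFP using fun n => Contract29.exists_mod (P n).1
  have hFi : ∀ n, Nonempty ((Scheme.Modules.pullback (i n)).obj (F (n + 1)) ≅ F n) := fun n => by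
    refine (Cube.clsMod_eq_iff (Ample.isInvertible_pullback (i n) (hF (n + 1))) (hF n)).1 ?_
    rw [Cube.clsMod_pullback (i n) (hF (n + 1)), hFP, hFP]
    exact hl2 n (P n).1 (P n).2
  obtain ⟨M, hM, hMe⟩ := GrothLib.PicFormal26.exists_invertible f (e := e)
    (fun n => IsPullback.of_hasPullback _ _) (fun n => (hie n).symm) hcart F hF hFi
  have hMP : ∀ n, Cube.pull (e n) (Cube.clsMod hM) = (P n).1 := fun n => by
    rw [← Cube.clsMod_pullback (e n) hM, ← hFP n]
    exact (Cube.clsMod_eq_iff _ _).2 (hMe n)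
  refine ⟨Cube.clsMod hM, ?_, ?_⟩
  · have h0 : Cube.pull (e 0) (Cube.clsMod hM) = (1 : Cube.Pic (Xs 0)) := hMP 0
    rw [← hde, ← Cube.pull_comp] at h0
    have h1 := congrArg (Cube.pull (inv d)) h0
    rw [Cube.pull_comp, IsIso.inv_hom_id, Cube.pull_id] at h1
    exact h1.trans (map_one _)
  · obtain ⟨N, hN, hNc⟩ := Contract29.exists_mod (Cube.clsMod hM ^ q * c⁻¹)
    have h1 := (Cube.clsMod_eq_one_iff hN).2 (PicThick26.nonempty_iso_of_thicks f hN fun k => by
      show Cube.pull (e k) (Cube.clsMod hN) = 1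
      rw [hNc, map_mul, map_pow, map_inv, hMP, (P k).2, mul_inv_cancel])
    rw [hNc, mul_inv_eq_one] at h1
    exact h1

end GrothLib.TorsPic29
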