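import Groth.Agent.Lib.TorsPic29.RootSheaf
import Groth.Agent.Lib.TorsPic29.Divisible
import Groth.Agent.Lib.PicFormal26.Main
import Groth.Agent.Lib.PicThick26.Complete
import Groth.Agent.Lib.UnitsThick26.FlatIdeal
import Groth.Agent.Lib.AffDom.PointDim
import Groth.Agent.Lib.Contract29.AmpleCover

/-!
# Powers of the residue characteristic in the Picard group of a formal family of curves
-/

set_option autoImplicit false
set_option linter.all false
set_option backward.isDefEq.respectTransparency false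

universe u

open CategoryTheory CategoryTheory.Limits AlgebraicGeometry TopologicalSpace IsLocalRing
open GrothLib.UnitsThick26

noncomputable section

namespace GrothLib.TorsPic29

theorem exists_one_add_pow_prime_pow {B : Type u} [CommRing B] {p : ℕ} (hp : p.Prime) {r : ℕ} (hr : 2 ≤ r) (a : B)
    (i : ℕ) : ∃ b : B, (1 + (p : B) ^ r * a) ^ p ^ i = 1 + (p : B) ^ (r + i) * a + (p : B) ^ (r + i + 1) * b := by
  induction i with
  | zero => exact ⟨0, by simp⟩
  | succ i ih =>
    obtain ⟨b, hb⟩ := ih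
    obtain ⟨w, hw⟩ : ∃ w : B, (1 + (p : B) ^ (r + i) * (a + p * b)) ^ p =
        1 + p * ((p : B) ^ (r + i) * (a + p * b)) + ((p : B) ^ (r + i) * (a + p * b)) ^ 2 * w := by
      obtain ⟨m, hm⟩ : ∃ m, p = m + 2 := ⟨p - 2, by have := hp.two_le; omega⟩
      generalize (p : B) ^ (r + i) * (a + p * b) = x
      have key : ∀ n : ℕ, ∃ w : B, (1 + x) ^ n = 1 + (n : B) * x + x ^ 2 * w := by
        intro n
        induction n with
        | zero => exact ⟨0, by simp⟩
        | succ n ihn =>
          obtain ⟨w, hw⟩ := ihn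
          exact ⟨w + n + x * w, by rw [pow_succ, hw]; push_cast; ring⟩
      exact key p
    obtain ⟨j, hj⟩ : ∃ j, (r + i) + (r + i) = r + (i + 1) + 1 + j := ⟨(r + i) + (r + i) - (r + (i + 1) + 1), by omega⟩
    refine ⟨b + (p : B) ^ j * (a + p * b) ^ 2 * w, ?_⟩
    rw [pow_succ, pow_mul, hb,
      show 1 + (p : B) ^ (r + i) * a + (p : B) ^ (r + i + 1) * b = 1 + (p : B) ^ (r + i) * (a + p * b) by ring, hw,
      mul_pow ((p : B) ^ (r + i)) (a + p * b) 2, ← pow_mul, show (r + i) * 2 = r + (i + 1) + 1 + j by omega, pow_add _ (r + (i + 1) + 1) j]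
    ring

variable {A : Type u} [CommRing A] [IsLocalRing A] [IsNoetherianRing A] {X : Scheme.{u}}
  (f : X ⟶ Spec (CommRingCat.of A))

/-- The quotient map between two levels. -/
def levelQuot {m n : ℕ} (h : m ≤ n) : A ⧸ maximalIdeal A ^ (n + 1) →+* A ⧸ maximalIdeal A ^ (m + 1) :=
  Ideal.Quotient.factor (Ideal.pow_le_pow_right (by omega))

theorem levelQuot_specQuot {m n : ℕ} (h : m ≤ n) :
    Spec.map (CommRingCat.ofHom (levelQuot (A := A) h)) ≫ CohB1.specQuot (maximalIdeal A) n =
      CohB1.specQuot (maximalIdeal A) m := by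
  rw [CohB1.specQuot, ← Spec.map_comp]
  rfl

/-- The map between two levels. -/
def levelMap {m n : ℕ} (h : m ≤ n) : CohB1.thick f (maximalIdeal A) m ⟶ CohB1.thick f (maximalIdeal A) n :=
  pullback.lift (pullback.fst f (CohB1.specQuot (maximalIdeal A) m))
    (pullback.snd f (CohB1.specQuot (maximalIdeal A) m) ≫ Spec.map (CommRingCat.ofHom (levelQuot h)))
    (by rw [Category.assoc, levelQuot_specQuot]; exact pullback.condition)

theorem levelMap_fst {m n : ℕ} (h : m ≤ n) :
    levelMap f h ≫ CohB1.thickι f (maximalIdeal A) n = CohB1.thickι f (maximalIdeal A) m :=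
  pullback.lift_fst _ _ _

theorem levelMap_comp {l m n : ℕ} (h : l ≤ m) (h' : m ≤ n) :
    levelMap f h ≫ levelMap f h' = levelMap f (h.trans h') := by
  refine pullback.hom_ext ?_ ?_
  · rw [Category.assoc, levelMap_fst, levelMap_fst, levelMap_fst]
  · rw [Category.assoc, levelMap, levelMap, levelMap, pullback.lift_snd, pullback.lift_snd, pullback.lift_snd_assoc,
      Category.assoc, ← Spec.map_comp, ← CommRingCat.ofHom_comp, levelQuot, levelQuot, Ideal.Quotient.factor_comp]
    rfl

theorem levelMap_self (n : ℕ) : levelMap f (le_refl n) = 𝟙 _ := by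
  refine pullback.hom_ext ?_ ?_
  · rw [levelMap_fst, Category.id_comp]
  · rw [levelMap, pullback.lift_snd, Category.id_comp,
      show levelQuot (A := A) (le_refl n) = RingHom.id _ from Ideal.Quotient.ringHom_ext rfl]
    exact (congrArg _ (Spec.map_id _)).trans (Category.comp_id _)

theorem isPullback_levelMap {m n : ℕ} (h : m ≤ n) :
    IsPullback (levelMap f h) (pullback.snd f (CohB1.specQuot (maximalIdeal A) m))
      (pullback.snd f (CohB1.specQuot (maximalIdeal A) n)) (Spec.map (CommRingCat.ofHom (levelQuot h))) := by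
  refine IsPullback.of_right ?_ (pullback.lift_snd _ _ _) (IsPullback.of_hasPullback f (CohB1.specQuot (maximalIdeal A) n))
  rw [show levelMap f h ≫ pullback.fst f (CohB1.specQuot (maximalIdeal A) n) =
    pullback.fst f (CohB1.specQuot (maximalIdeal A) m) from levelMap_fst f h, levelQuot_specQuot]
  exact IsPullback.of_hasPullback _ _

instance isClosedImmersion_levelMap {m n : ℕ} (h : m ≤ n) : IsClosedImmersion (levelMap f h) :=
  MorphismProperty.of_isPullback (isPullback_levelMap f h).flip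
    (IsClosedImmersion.spec_of_surjective _ (Ideal.Quotient.factor_surjective (Ideal.pow_le_pow_right (by omega))))

theorem isSqZero_levelMap (n : ℕ) : IsSqZero (levelMap f (Nat.le_succ n)) :=
  isSqZero_of_pullback_sq (isPullback_levelMap f (Nat.le_succ n)) (Ideal.Quotient.factor_surjective _) (by
    rw [show RingHom.ker (levelQuot (A := A) (Nat.le_succ n)) =
        (maximalIdeal A ^ (n + 1)).map (Ideal.Quotient.mk (maximalIdeal A ^ (n + 1 + 1))) from Ideal.Quotient.factor_ker _,
      ← Ideal.map_mul, ← pow_add, eq_bot_iff]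
    refine (Ideal.map_mono (Ideal.pow_le_pow_right (by omega : n + 1 + 1 ≤ n + 1 + (n + 1)))).trans ?_
    rw [Ideal.map_quotient_self])

theorem ker_levelMap_app {p : ℕ} (hm : maximalIdeal A = Ideal.span {(p : A)}) {m n : ℕ} (h : m ≤ n)
    {W : (CohB1.thick f (maximalIdeal A) n).Opens} (hW : IsAffineOpen W) :
    RingHom.ker ((levelMap f h).app W).hom = Ideal.span {(p : Γ(CohB1.thick f (maximalIdeal A) n, W)) ^ (m + 1)} := by
  rw [ker_app_of_isPullback (isPullback_levelMap f h) (Ideal.Quotient.factor_surjective _) hW,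
    show RingHom.ker (levelQuot (A := A) h) =
      (maximalIdeal A ^ (m + 1)).map (Ideal.Quotient.mk (maximalIdeal A ^ (n + 1))) from Ideal.Quotient.factor_ker _,
    Ideal.map_map, Ideal.map_pow]
  refine (congrArg (fun J : Ideal A => Ideal.map _ J ^ (m + 1)) hm).trans ?_
  rw [Ideal.map_span, Set.image_singleton, map_natCast, Ideal.span_singleton_pow]

theorem natCast_pow_eq_zero {p : ℕ} (hm : maximalIdeal A = Ideal.span {(p : A)}) (n : ℕ)
    (W : (CohB1.thick f (maximalIdeal A) n).Opens) :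
    (p : Γ(CohB1.thick f (maximalIdeal A) n, W)) ^ (n + 1) = 0 := by
  have h0 : (p : A ⧸ maximalIdeal A ^ (n + 1)) ^ (n + 1) = 0 := by
    rw [← map_natCast (Ideal.Quotient.mk (maximalIdeal A ^ (n + 1))), ← map_pow, Ideal.Quotient.eq_zero_iff_mem]
    exact Ideal.pow_mem_pow (hm ▸ Ideal.mem_span_singleton_self _) _
  simpa using congrArg (GrothLib.Cube.cst (pullback.snd f (CohB1.specQuot (maximalIdeal A) n)) W) h0

variable [IsProper f]

theorem noetherianSpace_thick (n : ℕ) : NoetherianSpace (CohB1.thick f (maximalIdeal A) n) := by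
  haveI : IsProper (pullback.snd f (CohB1.specQuot (maximalIdeal A) n)) := MorphismProperty.pullback_snd _ _ inferInstance
  haveI : IsNoetherian (CohB1.thick f (maximalIdeal A) n) :=
    { toIsLocallyNoetherian := LocallyOfFiniteType.isLocallyNoetherian (pullback.snd f (CohB1.specQuot (maximalIdeal A) n))
      toCompactSpace := QuasiCompact.compactSpace_of_compactSpace (pullback.snd f (CohB1.specQuot (maximalIdeal A) n)) }
  infer_instance

theorem dim_thick_le (hd : topologicalKrullDim (f.fiber (closedPoint A)) ≤ 1) (n : ℕ) :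
    topologicalKrullDim (CohB1.thick f (maximalIdeal A) n) ≤ 1 := by
  haveI : IsClosedImmersion (CohB1.specQuot (maximalIdeal A) n) :=
    IsClosedImmersion.spec_of_surjective _ Ideal.Quotient.mk_surjective
  haveI : IsClosedImmersion (CohB1.thickι f (maximalIdeal A) n) := MorphismProperty.pullback_fst _ _ inferInstance
  let e := CohB1.thickι f (maximalIdeal A) n
  have hsub : ∀ x, e x ∈ f ⁻¹' {closedPoint A} := fun x => by
    show f (e x) = closedPoint A
    rw [← Scheme.Hom.comp_apply, show e ≫ f = pullback.snd _ _ ≫ CohB1.specQuot (maximalIdeal A) n from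
      pullback.condition, Scheme.Hom.comp_apply]
    let z := pullback.snd f (CohB1.specQuot (maximalIdeal A) n) x
    haveI := z.isPrime
    have hz : maximalIdeal A ≤ z.asIdeal.comap (Ideal.Quotient.mk (maximalIdeal A ^ (n + 1))) := fun a ha =>
      Ideal.IsPrime.mem_of_pow_mem inferInstance (n + 1) (by
        rw [Ideal.mem_comap, Ideal.Quotient.eq_zero_iff_mem.2 (Ideal.pow_mem_pow ha _)]
        exact zero_mem _)
    exact PrimeSpectrum.ext ((maximalIdeal.isMaximal A).eq_of_le (Ideal.IsPrime.ne_top inferInstance) hz).symm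
  have hi : Topology.IsInducing (Set.codRestrict e _ hsub) :=
    e.isClosedEmbedding.isInducing.codRestrict hsub
  exact hi.topologicalKrullDim_le.trans ((GrothLib.AffDom.topologicalKrullDim_fiber f (closedPoint A)).le.trans hd)

variable [IsAdicComplete (maximalIdeal A) A]

/-- Every class on a level lifts. -/
theorem pull_thick_surjective (hd : topologicalKrullDim (f.fiber (closedPoint A)) ≤ 1) (n : ℕ) :
    Function.Surjective (Cube.pull (CohB1.thickι f (maximalIdeal A) n)) := by
  intro x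
  have hstep : ∀ m (y : Cube.Pic (CohB1.thick f (maximalIdeal A) m)),
      (∀ h : m ≤ n, y = Cube.pull (levelMap f h) x) →
      (∀ h : n ≤ m, Cube.pull (levelMap f h) y = x) →
      ∃ y' : Cube.Pic (CohB1.thick f (maximalIdeal A) (m + 1)), Cube.pull (levelMap f (Nat.le_succ m)) y' = y ∧
        (∀ h : m + 1 ≤ n, y' = Cube.pull (levelMap f h) x) ∧
        (∀ h : n ≤ m + 1, Cube.pull (levelMap f h) y' = x) := by
    intro m y h1 h2
    by_cases hmn : m + 1 ≤ n
    · refine ⟨Cube.pull (levelMap f hmn) x, ?_, fun _ => rfl, fun h => ?_⟩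
      · rw [Cube.pull_comp, levelMap_comp, ← h1]
      · obtain rfl : m + 1 = n := le_antisymm hmn h
        rw [Cube.pull_comp, levelMap_comp]
        exact (congrArg (fun t => Cube.pull t x) (levelMap_self f (m + 1))).trans (Cube.pull_id x)
    · haveI := noetherianSpace_thick f (m + 1)
      obtain ⟨y', hy'⟩ := pull_surjective_of_sqZero (dim_thick_le f hd (m + 1)) (levelMap f (Nat.le_succ m))
        (isSqZero_levelMap f m) y
      refine ⟨y', hy', fun h => absurd h hmn, fun h => ?_⟩
      rw [← levelMap_comp f (by omega : n ≤ m) (Nat.le_succ m), ← Cube.pull_comp, hy']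
      exact h2 _
  choose next hn1 hn2 hn3 using hstep
  let P : ∀ m, {y : Cube.Pic (CohB1.thick f (maximalIdeal A) m) //
      (∀ h : m ≤ n, y = Cube.pull (levelMap f h) x) ∧ (∀ h : n ≤ m, Cube.pull (levelMap f h) y = x)} :=
    fun m => Nat.rec ⟨Cube.pull (levelMap f (Nat.zero_le n)) x, fun _ => rfl, fun h => by
        obtain rfl : n = 0 := Nat.le_zero.1 h
        rw [Cube.pull_comp, levelMap_comp]
        exact (congrArg (fun t => Cube.pull t x) (levelMap_self f 0)).trans (Cube.pull_id x)⟩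
      (fun m y => ⟨next m y.1 y.2.1 y.2.2, hn2 m y.1 y.2.1 y.2.2, hn3 m y.1 y.2.1 y.2.2⟩) m
  choose F hF hFP using fun m => Contract29.exists_mod (P m).1
  have hFi : ∀ m, Nonempty ((Scheme.Modules.pullback (levelMap f (Nat.le_succ m))).obj (F (m + 1)) ≅ F m) := fun m => by
    refine (Cube.clsMod_eq_iff (Ample.isInvertible_pullback (levelMap f (Nat.le_succ m)) (hF (m + 1))) (hF m)).1 ?_
    rw [Cube.clsMod_pullback (levelMap f (Nat.le_succ m)) (hF (m + 1)), hFP, hFP]
    exact hn1 m (P m).1 (P m).2.1 (P m).2.2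
  obtain ⟨M, hM, hMe⟩ := GrothLib.PicFormal26.exists_invertible f (e := fun m => CohB1.thickι f (maximalIdeal A) m)
    (fun m => IsPullback.of_hasPullback _ _) (fun m => (levelMap_fst f (Nat.le_succ m)).symm)
    (fun m => isPullback_levelMap f (Nat.le_succ m)) F hF hFi
  refine ⟨Cube.clsMod hM, ?_⟩
  rw [← Cube.clsMod_pullback (CohB1.thickι f (maximalIdeal A) n) hM, (Cube.clsMod_eq_iff _ (hF n)).2 (hMe n), hFP]
  simpa [levelMap_self, Cube.pull_id] using (P n).2.1 le_rfl

/-- A class killed at level `i + 1` is a `p ^ i`-th power. -/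
theorem exists_root_of_pull_thick {p : ℕ} (hp : p.Prime) (hm : maximalIdeal A = Ideal.span {(p : A)})
    (hd : topologicalKrullDim (f.fiber (closedPoint A)) ≤ 1) (i : ℕ) (c : Cube.Pic X)
    (hc : Cube.pull (CohB1.thickι f (maximalIdeal A) (i + 1)) c = 1) : ∃ y : Cube.Pic X, y ^ p ^ i = c := by
  let e := fun m => CohB1.thickι f (maximalIdeal A) m
  have hstep : ∀ m (y : Cube.Pic (CohB1.thick f (maximalIdeal A) (m + 1 + i))),
      y ^ p ^ i = Cube.pull (e (m + 1 + i)) c →
      ∃ y' : Cube.Pic (CohB1.thick f (maximalIdeal A) (m + 1 + 1 + i)),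
        y' ^ p ^ i = Cube.pull (e (m + 1 + 1 + i)) c ∧
        Cube.pull (levelMap f (show m + 1 ≤ m + 1 + 1 + i by omega)) y' =
          Cube.pull (levelMap f (show m + 1 ≤ m + 1 + i by omega)) y := by
    intro m y hy
    haveI := noetherianSpace_thick f (m + 1 + 1 + i)
    have hd' := dim_thick_le f hd (m + 1 + 1 + i)
    let c₂ := levelMap f (show m + 1 + i ≤ m + 1 + 1 + i by omega)
    let c₁ := levelMap f (show m + 1 ≤ m + 1 + 1 + i by omega)
    have hc₂ : IsSqZero c₂ := isSqZero_of_pullback_sq (isPullback_levelMap f _) (Ideal.Quotient.factor_surjective _) (by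
      rw [show RingHom.ker (levelQuot (A := A) (show m + 1 + i ≤ m + 1 + 1 + i by omega)) =
          (maximalIdeal A ^ (m + 1 + i + 1)).map (Ideal.Quotient.mk (maximalIdeal A ^ (m + 1 + 1 + i + 1))) from
          Ideal.Quotient.factor_ker _, ← Ideal.map_mul, ← pow_add, eq_bot_iff]
      refine (Ideal.map_mono (Ideal.pow_le_pow_right
        (by omega : m + 1 + 1 + i + 1 ≤ m + 1 + i + 1 + (m + 1 + i + 1)))).trans ?_
      rw [Ideal.map_quotient_self])
    obtain ⟨Y, hY⟩ := pull_surjective_of_sqZero hd' c₂ hc₂ y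
    have hδ : Cube.pull c₂ (Cube.pull (e (m + 1 + 1 + i)) c * (Y ^ p ^ i)⁻¹) = 1 := by
      rw [map_mul, map_inv, map_pow, hY, Cube.pull_comp, levelMap_fst, hy, mul_inv_cancel]
    obtain ⟨z, hz1, hz2⟩ := exists_root_of_units hd' c₁ c₂ hc₂ (p ^ i) (fun W hW v hv => by
      obtain ⟨a, ha⟩ := Ideal.mem_span_singleton.1 ((ker_levelMap_app f hm _ hW).le
        (show v - 1 ∈ RingHom.ker (c₁.app W).hom by rw [RingHom.mem_ker, map_sub, hv, map_one, sub_self]))
      obtain ⟨b, hb⟩ := exists_one_add_pow_prime_pow hp (show 2 ≤ m + 1 + 1 by omega) a i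
      have hker : v ^ p ^ i - 1 ∈ RingHom.ker (c₂.app W).hom := by
        refine (ker_levelMap_app f hm _ hW).ge (Ideal.mem_span_singleton.2 ⟨a + p * b, ?_⟩)
        rw [show v = 1 + (p : Γ(CohB1.thick f (maximalIdeal A) (m + 1 + 1 + i), W)) ^ (m + 1 + 1) * a by rw [← ha]; ring, hb,
          show m + 1 + i + 1 = m + 1 + 1 + i by omega]
        ring
      rw [RingHom.mem_ker, map_sub, map_one, sub_eq_zero] at hker
      exact hker) (fun W hW u hu => by
      obtain ⟨a, ha⟩ := Ideal.mem_span_singleton.1 ((ker_levelMap_app f hm _ hW).le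
        (show (u : Γ(CohB1.thick f (maximalIdeal A) (m + 1 + 1 + i), W)) - 1 ∈ RingHom.ker (c₂.app W).hom by rw [RingHom.mem_ker, map_sub, hu, map_one, sub_self]))
      obtain ⟨b, hb⟩ := exists_one_add_pow_prime_pow hp (show 2 ≤ m + 1 + 1 by omega) a i
      have h0 : (p : Γ(CohB1.thick f (maximalIdeal A) (m + 1 + 1 + i), W)) ^ (m + 1 + 1 + i + 1) = 0 :=
        natCast_pow_eq_zero f hm _ W
      rw [h0, zero_mul, add_zero, show (p : Γ(CohB1.thick f (maximalIdeal A) (m + 1 + 1 + i), W)) ^ (m + 1 + 1 + i) = (p : Γ(CohB1.thick f (maximalIdeal A) (m + 1 + 1 + i), W)) ^ (m + 1 + i + 1) from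
        congrArg (fun t : ℕ => (p : Γ(CohB1.thick f (maximalIdeal A) (m + 1 + 1 + i), W)) ^ t) (by omega), ← ha, add_sub_cancel] at hb
      have hu' : IsUnit (1 + (p : Γ(CohB1.thick f (maximalIdeal A) (m + 1 + 1 + i), W)) ^ (m + 1 + 1) * a) :=
        (isUnit_pow_iff (pow_ne_zero i hp.ne_zero)).1 (hb ▸ u.isUnit)
      refine ⟨hu'.unit, ?_, Units.ext (by rw [Units.val_pow_eq_pow_val, IsUnit.unit_spec, hb])⟩
      have hker : (1 + (p : Γ(CohB1.thick f (maximalIdeal A) (m + 1 + 1 + i), W)) ^ (m + 1 + 1) * a) - 1 ∈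
          RingHom.ker (c₁.app W).hom :=
        (ker_levelMap_app f hm _ hW).ge (Ideal.mem_span_singleton.2 ⟨a, by ring⟩)
      rw [RingHom.mem_ker, map_sub, map_one, sub_eq_zero] at hker
      exact hker) _ hδ
    refine ⟨Y * z, by rw [mul_pow, hz2, mul_comm (Cube.pull (e (m + 1 + 1 + i)) c), mul_inv_cancel_left], ?_⟩
    rw [map_mul, hz1, mul_one, ← levelMap_comp f (show m + 1 ≤ m + 1 + i by omega)
      (show m + 1 + i ≤ m + 1 + 1 + i by omega), ← Cube.pull_comp, hY]
  choose next hn1 hn2 using hstep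
  have h00 : (1 : Cube.Pic (CohB1.thick f (maximalIdeal A) (0 + 1 + i))) ^ p ^ i = Cube.pull (e (0 + 1 + i)) c := by
    rw [one_pow, show e (0 + 1 + i) = levelMap f (show 0 + 1 + i ≤ i + 1 by omega) ≫ e (i + 1) from
      (levelMap_fst f _).symm, ← Cube.pull_comp, hc, map_one]
  let P : ∀ m, {y : Cube.Pic (CohB1.thick f (maximalIdeal A) (m + 1 + i)) // y ^ p ^ i = Cube.pull (e (m + 1 + i)) c} :=
    fun m => Nat.rec ⟨1, h00⟩ (fun m y => ⟨next m y.1 y.2, hn1 m y.1 y.2⟩) m
  let G : ∀ m, Cube.Pic (CohB1.thick f (maximalIdeal A) m) := fun m =>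
    Cube.pull (levelMap f (show m ≤ m + 1 + i by omega)) (P m).1
  choose F hF hFP using fun m => Contract29.exists_mod (G m)
  have hFi : ∀ m, Nonempty ((Scheme.Modules.pullback (levelMap f (Nat.le_succ m))).obj (F (m + 1)) ≅ F m) := fun m => by
    refine (Cube.clsMod_eq_iff (Ample.isInvertible_pullback (levelMap f (Nat.le_succ m)) (hF (m + 1))) (hF m)).1 ?_
    rw [Cube.clsMod_pullback (levelMap f (Nat.le_succ m)) (hF (m + 1)), hFP, hFP]
    show Cube.pull _ (Cube.pull _ (next m (P m).1 (P m).2)) = Cube.pull _ (P m).1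
    rw [hn2, Cube.pull_comp, levelMap_comp]
  obtain ⟨M, hM, hMe⟩ := GrothLib.PicFormal26.exists_invertible f (e := e)
    (fun m => IsPullback.of_hasPullback _ _) (fun m => (levelMap_fst f (Nat.le_succ m)).symm)
    (fun m => isPullback_levelMap f (Nat.le_succ m)) F hF hFi
  have hMG : ∀ m, Cube.pull (e m) (Cube.clsMod hM) = G m := fun m => by
    rw [← Cube.clsMod_pullback (e m) hM, ← hFP m]
    exact (Cube.clsMod_eq_iff _ _).2 (hMe m)
  refine ⟨Cube.clsMod hM, ?_⟩
  obtain ⟨N, hN, hNc⟩ := Contract29.exists_mod (Cube.clsMod hM ^ p ^ i * c⁻¹)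
  have h1 := (Cube.clsMod_eq_one_iff hN).2 (PicThick26.nonempty_iso_of_thicks f hN fun k => by
    show Cube.pull (e k) (Cube.clsMod hN) = 1
    rw [hNc, map_mul, map_pow, map_inv, hMG, ← map_pow, (P k).2, Cube.pull_comp, levelMap_fst, mul_inv_cancel])
  rw [hNc, mul_inv_eq_one] at h1
  exact h1

end GrothLib.TorsPic29
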