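import Groth.Agent.Lib.TorsPic29.RootSheaf
import Groth.Agent.Lib.CurveRR.PicClass

/-!
# Classes lift along closed immersions in dimension at most one
-/

set_option autoImplicit false
set_option linter.all false
set_option backward.isDefEq.respectTransparency false

universe u

open CategoryTheory CategoryTheory.Limits AlgebraicGeometry TopologicalSpace Opposite
open GrothLib.UnitsThick26 GrothLib.PicH1

noncomputable section

namespace GrothLib.TorsPic29

/-- Units lift locally along a closed immersion. -/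
theorem epi_comap_of_isClosedImmersion {Z X : Scheme.{u}} (i : Z ⟶ X) [IsClosedImmersion i] :
    Epi (UnitsSh.comap i) := by
  rw [← Sheaf.isLocallySurjective_iff_epi']
  refine ⟨fun {V} t x hx => ?_⟩
  obtain ⟨W, hW, hxW, hWV⟩ := exists_isAffineOpen_mem_and_subset (x := x) (U := V) hx
  let t' := ((CohTop.push i.base).obj (UnitsSh.unitsAb Z)).obj.map (homOfLE (show W ≤ V from hWV)).op t
  let v : (Γ(Z, i ⁻¹ᵁ W))ˣ := UnitsSh.unitOfSect (O := Z.presheaf) t'
  obtain ⟨a, ha⟩ := i.app_surjective W hW (v : Γ(Z, i ⁻¹ᵁ W))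
  -- a neighbourhood of `x` in `W` on which some lift is a unit
  obtain ⟨W', hW'W, hxW', b, hb⟩ : ∃ (W' : X.Opens) (h : W' ≤ W) (_ : x ∈ W') (b : (Γ(X, W'))ˣ),
      i.app W' (b : Γ(X, W')) = Z.presheaf.map (homOfLE (i.preimage_mono h)).op (v : Γ(Z, i ⁻¹ᵁ W)) := by
    by_cases hr : x ∈ Set.range i
    · obtain ⟨z, rfl⟩ := hr
      have hz : z ∈ i ⁻¹ᵁ X.basicOpen a := by
        rw [Scheme.preimage_basicOpen, ha, Scheme.basicOpen_of_isUnit _ v.isUnit]
        exact hxW
      refine ⟨X.basicOpen a, X.basicOpen_le a, hz,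
        (RingedSpace.isUnit_res_basicOpen X.toRingedSpace a).unit, ?_⟩
      rw [← ha]
      exact ConcreteCategory.congr_hom (i.naturality (homOfLE (X.basicOpen_le a)).op) a
    · let O : X.Opens := ⟨(Set.range i)ᶜ, i.isClosedEmbedding.isClosed_range.isOpen_compl⟩
      refine ⟨W ⊓ O, inf_le_left, ⟨hxW, hr⟩, 1, ?_⟩
      haveI : Subsingleton Γ(Z, i ⁻¹ᵁ (W ⊓ O)) := by
        have he : i ⁻¹ᵁ (W ⊓ O) = ⊥ := by
          ext z
          simp only [Scheme.Hom.preimage_inf]
          exact ⟨fun h => absurd ⟨z, rfl⟩ h.2, fun h => h.elim⟩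
        rw [he]
        infer_instance
      exact Subsingleton.elim _ _
  refine ⟨W', homOfLE (hW'W.trans hWV), ⟨UnitsSh.sectOfUnit (O := X.presheaf) b, ?_⟩, hxW'⟩
  let t'' := ((CohTop.push i.base).obj (UnitsSh.unitsAb Z)).obj.map (homOfLE (hW'W.trans hWV)).op t
  let v'' : (Γ(Z, i ⁻¹ᵁ W'))ˣ := UnitsSh.unitOfSect (O := Z.presheaf) t''
  have hv'' : i.app W' (b : Γ(X, W')) = (v'' : Γ(Z, i ⁻¹ᵁ W')) := by
    rw [hb]
    show (Z.presheaf.map _) (Z.presheaf.map _ _) = Z.presheaf.map _ _
    rw [← ConcreteCategory.comp_apply, ← Functor.map_comp]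
    rfl
  exact congrArg UnitsSh.sectOfUnit (Units.ext hv'')

/-- Classes lift along closed immersions into spaces of dimension at most one. -/
theorem pull_surjective_of_closedImmersion {Z X : Scheme.{u}} [NoetherianSpace X] (hd : topologicalKrullDim X ≤ 1)
    (c : Z ⟶ X) [IsClosedImmersion c] : Function.Surjective (Cube.pull c) := fun z => by
  obtain ⟨x, rfl⟩ := (toPicPushHG_bijective c).2 z
  haveI := epi_comap_of_isClosedImmersion c
  obtain ⟨y, hy⟩ := surjective_HGmap_of_epi hd (UnitsSh.comap c) x.toAdd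
  exact ⟨toPicHG X (Multiplicative.ofAdd y),
    (toPicPushHG_comap c (Multiplicative.ofAdd y)).symm.trans (congrArg _ (congrArg Multiplicative.ofAdd hy))⟩

/-- Invertible modules lift along closed immersions into spaces of dimension at most one. -/
theorem exists_invertible_lift {Z X : Scheme.{u}} [NoetherianSpace X] (hd : topologicalKrullDim X ≤ 1)
    (c : Z ⟶ X) [IsClosedImmersion c] (L : Z.Modules) (hL : PicF.IsInvertible L) :
    ∃ L' : X.Modules, PicF.IsInvertible L' ∧ Nonempty ((Scheme.Modules.pullback c).obj L' ≅ L) := by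
  obtain ⟨b, ⟨L', rfl, hL'⟩, he⟩ :=
    PicH1.exists_pullCl_eq c (pull_surjective_of_closedImmersion hd c) (a := PicF.cl L) ⟨L, rfl, hL⟩
  exact ⟨L', hL', (CurveRR.cl_eq_cl_iff _ _).1 he⟩

end GrothLib.TorsPic29
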