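import Groth.Agent.Lib.TorsPic29.Main
import Groth.Agent.Lib.Gonflement.Main
import Groth.Agent.Lib.GGDesc10.Main
import Groth.Agent.Lib.Semiample.Criterion
import Groth.Agent.Lib.Cube.Torsion
import Groth.Agent.Lib.CurveMult.NefGenusZero
import Groth.Agent.Lib.Artin29.Final
import Mathlib.FieldTheory.IsAlgClosed.AlgebraicClosure

/-!
# Descent from an algebraically closed residue field
-/

set_option autoImplicit false
set_option linter.all false
set_option backward.isDefEq.respectTransparency false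

universe u

open CategoryTheory CategoryTheory.Limits AlgebraicGeometry TopologicalSpace Opposite IsLocalRing
open GrothLib.Ample GrothLib.Cube

noncomputable section

namespace GrothLib.TorsPic29

/-- A section of the trivial class is a function. -/
theorem exists_basicOpen_of_hasSec_one {X : Scheme.{u}} {U : X.Opens} (h : HasSec (1 : Pic X) U) :
    ∃ r : Γ(X, ⊤), U = X.basicOpen r := by
  obtain ⟨c, a, hc, rfl⟩ := h
  obtain ⟨α, hα⟩ := cls_eq_one_iff.1 hc
  choose w hw using fun i => (isUnit_component hα i (le_refl (c.D i))).exists_right_inv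
  obtain ⟨r, hr⟩ := exists_glue c.D (O := ⊤) (fun _ => le_top) c.cover.ge
    (fun i => res (le_inf le_top le_rfl) (a.1 i) * w i) (fun i k => by
      let O := c.D i ⊓ c.D k
      have e1 := c.sect_spec a i k (W := O) (le_inf le_top inf_le_left) (le_inf le_top inf_le_right)
      have e2 := c.sect_spec α i k (W := O) (le_inf le_top inf_le_left) (le_inf le_top inf_le_right)
      rw [pow_one] at e1 e2
      have wi := congrArg (res (inf_le_left : O ≤ c.D i)) (hw i)
      have wk := congrArg (res (inf_le_right : O ≤ c.D k)) (hw k)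
      simp only [map_mul, map_one, res_res] at wi wk
      simp only [map_mul, res_res]
      linear_combination (res (inf_le_left : O ≤ c.D i) (w i)) * e1 +
        (res (le_inf le_top inf_le_right : O ≤ ⊤ ⊓ c.D k) (a.1 k) * res (inf_le_right : O ≤ c.D k) (w k)) * wi -
        (res (le_inf le_top inf_le_right : O ≤ ⊤ ⊓ c.D k) (a.1 k) * res (inf_le_right : O ≤ c.D k) (w k) *
          res (inf_le_left : O ≤ c.D i) (w i)) * e2 -
        (c.G i k inf_le_left inf_le_right * res (le_inf le_top inf_le_right : O ≤ ⊤ ⊓ c.D k) (a.1 k) *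
          res (inf_le_left : O ≤ c.D i) (w i)) * wk)
  refine ⟨r, ?_⟩
  ext q
  obtain ⟨i, hi⟩ := c.exists_mem q
  have e0 : res (le_inf le_top le_rfl : c.D i ≤ ⊤ ⊓ c.D i) (a.1 i) =
      res (le_top : c.D i ≤ ⊤) r * res (le_inf le_top le_rfl) (α.1 i) := by
    rw [hr i, _root_.mul_assoc, mul_comm (w i), hw i, _root_.mul_one]
  rw [SetLike.mem_coe, c.mem_locus_iff a hi, SetLike.mem_coe]
  have e1 : q ∈ X.basicOpen (a.1 i) ↔
      q ∈ X.basicOpen (res (le_inf le_top le_rfl : c.D i ≤ ⊤ ⊓ c.D i) (a.1 i)) := by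
    rw [Scheme.basicOpen_res]; exact ⟨fun h => ⟨hi, h⟩, fun h => h.2⟩
  rw [e1, e0, Scheme.basicOpen_mul, Scheme.basicOpen_of_isUnit _ (isUnit_component hα i (le_refl (c.D i))),
    Scheme.basicOpen_res]
  exact ⟨fun h => h.1.2, fun h => ⟨⟨hi, h⟩, hi⟩⟩

variable {A : Type u} [CommRing A] [IsLocalRing A] [IsNoetherianRing A] {X : Scheme.{u}}
  (f : X ⟶ Spec (CommRingCat.of A)) [IsProper f]

/-- A torsion class generated by its sections is trivial if the functions come from a local ring. -/
theorem eq_one_of_gg (hbij : Function.Surjective (Coh.toGlobal f)) {x₀ : X} (hx₀ : f x₀ = closedPoint A)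
    {L : X.Modules} (hL : PicF.IsInvertible L) (hgg : Curv2.IsGloballyGenerated L) {h : ℕ} (hh : 0 < h)
    (hph : clsMod hL ^ h = 1) : clsMod hL = 1 := by
  haveI : CompactSpace X := (quasiCompact_iff_compactSpace f).1 inferInstance
  obtain ⟨c, ⟨e⟩⟩ := Ample.exists_cocycle hL
  obtain ⟨n, s, hs⟩ := Semiample.exists_sections c (Ample.isGloballyGenerated_of_iso e hgg)
  obtain ⟨l, hl⟩ := Opens.mem_iSup.1 (hs.ge (Opens.mem_top x₀))
  have hsec : HasSec (clsMod hL) (c.locus (s l)) := ⟨c, s l, (Cube.clsMod_eq hL e).symm, rfl⟩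
  obtain ⟨m, rfl⟩ : ∃ m, h = m + 1 := ⟨h - 1, by omega⟩
  have h1 := hasSec_pow hsec m
  rw [hph] at h1
  obtain ⟨r, hr⟩ := exists_basicOpen_of_hasSec_one h1
  obtain ⟨a, rfl⟩ := hbij r
  rw [hr] at hl hsec
  refine Cube.eq_one_of_hasSec_top ?_
  have hmem : f x₀ ∈ (Spec (CommRingCat.of A)).basicOpen ((Scheme.ΓSpecIso (CommRingCat.of A)).inv a) := by
    have : x₀ ∈ f ⁻¹ᵁ (Spec (CommRingCat.of A)).basicOpen ((Scheme.ΓSpecIso (CommRingCat.of A)).inv a) := by
      rw [Scheme.preimage_basicOpen_top]; exact hl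
    exact this
  rw [basicOpen_eq_of_affine, hx₀] at hmem
  have hu : IsUnit a := IsLocalRing.notMem_maximalIdeal.1 hmem
  rwa [Scheme.basicOpen_of_isUnit _ (hu.map (Coh.toGlobal f))] at hsec

/-- Torsion of invertible order is detected on the closed fibre. -/
theorem eq_one_of_torsion (hbij : Function.Surjective (Coh.toGlobal f))
    (I : X.IdealSheafData) (hI : (I.support : Set X) = {x | f x = closedPoint A}) {x₀ : X}
    (hx₀ : f x₀ = closedPoint A) {h : ℕ} (hh : IsUnit (h : A)) (p : Pic X) (hph : p ^ h = 1)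
    (hp : pull I.subschemeι p = 1) : p = 1 := by
  obtain ⟨L, hL, rfl⟩ := Contract29.exists_mod p
  have hh0 : 0 < h := Nat.pos_of_ne_zero fun e => by rw [e, Nat.cast_zero] at hh; exact not_isUnit_zero hh
  obtain ⟨B, _, φ, ψ, hN, hLo, hflat, hψ, hker, hcomp⟩ :=
    Gonflement.exists_flat_local (R := A) (AlgebraicClosure (ResidueField A))
  haveI := hN; haveI := hLo
  have hm : RingHom.ker ψ = maximalIdeal B := IsLocalRing.eq_maximalIdeal (RingHom.ker_isMaximal_of_surjective ψ hψ)
  haveI : IsAlgClosed (ResidueField B) := IsAlgClosed.of_ringEquiv (AlgebraicClosure (ResidueField A)) _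
    ((RingHom.quotientKerEquivOfSurjective hψ).symm.trans (Ideal.quotEquivOfEq hm))
  haveI : IsLocalHom φ := ((IsLocalRing.local_hom_TFAE φ).out 0 2).2 (by rw [← hm, hker])
  let g := Spec.map (CommRingCat.ofHom φ)
  haveI : Flat g := Flat.SpecMap_iff.2 hflat
  haveI : Surjective g := by
    letI := φ.toAlgebra
    haveI : Module.Flat A B := hflat
    haveI : IsLocalHom (algebraMap A B) := ‹IsLocalHom φ›
    haveI : Module.FaithfullyFlat A B := Module.FaithfullyFlat.of_flat_of_isLocalHom
    exact ⟨PrimeSpectrum.comap_surjective_of_faithfullyFlat (A := A) (B := B)⟩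
  let g' := pullback.fst f g
  let f' := pullback.snd f g
  have H : IsPullback g' f' f g := IsPullback.of_hasPullback f g
  have hcm : g (closedPoint B) = closedPoint A := IsLocalRing.comap_closedPoint φ
  have hfib : ∀ z, f (g' z) = g (f' z) := fun z => by
    rw [← Scheme.Hom.comp_apply, H.w, Scheme.Hom.comp_apply]
  have hI' : ((I.comap g').support : Set ↥(pullback f g)) = {z | f' z = closedPoint B} := by
    ext z
    rw [Scheme.IdealSheafData.support_comap]
    show g' z ∈ (I.support : Set X) ↔ f' z = closedPoint B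
    rw [hI]
    show f (g' z) = closedPoint A ↔ _
    rw [hfib]
    refine ⟨fun e => PrimeSpectrum.ext (le_antisymm (le_maximalIdeal (f' z).isPrime.ne_top) ?_), fun e => e ▸ hcm⟩
    have e' : (f' z).asIdeal.comap φ = maximalIdeal A := congrArg PrimeSpectrum.asIdeal e
    show maximalIdeal B ≤ _
    rw [← hm, hker, Ideal.map_le_iff_le_comap, e']
  have h1 : pull g' (clsMod hL) = 1 := by
    refine eq_one f' (I.comap g') hI' (h := h) (by simpa using hh.map φ) _ (by rw [← map_pow, hph, map_one]) ?_
    rw [Cube.pull_comp, ← Scheme.IdealSheafData.subschemeMap_subschemeι (I.comap g') I g' (I.le_map_comap g'),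
      ← Cube.pull_comp, hp, map_one]
  haveI : (L).IsQuasicoherent := Euler.isQuasicoherent_of_isFinLocFree (Euler.isFinLocFree_of_isInvertible hL)
  obtain ⟨e⟩ := (Cube.clsMod_eq_one_iff (Ample.isInvertible_pullback g' hL)).1 (by
    rw [Cube.clsMod_pullback g' hL]; exact h1)
  have hgg : Curv2.IsGloballyGenerated L := (GGDesc10.isGloballyGenerated_iff φ H L).2
    (Ample.isGloballyGenerated_of_iso e.symm CurveMult.isGloballyGenerated_structure)
  exact eq_one_of_gg f hbij hx₀ hL hgg hh0 hph

end GrothLib.TorsPic29
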