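import Groth.Agent.Lib.TorsPic29.Descend
import Groth.Agent.Lib.ArSurf29.Global
import Groth.Prelude.Def_ModelsG

/-!
# Torsion of the Picard group of a model
-/

set_option autoImplicit false
set_option linter.all false
set_option backward.isDefEq.respectTransparency false

universe u

open CategoryTheory CategoryTheory.Limits AlgebraicGeometry TopologicalSpace IsLocalRing

noncomputable section

namespace GrothLib.TorsPic29

variable {R : Type u} [CommRing R] [IsDomain R] [IsDiscreteValuationRing R] {C X : Scheme.{u}}
  {f : C ⟶ Spec (CommRingCat.of (FractionRing R))} {p : X ⟶ Spec (CommRingCat.of R)}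

theorem isUnit_natCast_of_char {h : ℕ} (hh : 0 < h)
    (hchar : ∀ q : ℕ, q.Prime → CharP (ResidueField R) q → ¬ q ∣ h) : IsUnit (h : R) := by
  refine IsLocalRing.notMem_maximalIdeal.1 fun hm => ?_
  have h0 : (h : ResidueField R) = 0 := by
    rw [← map_natCast (residue R), residue_eq_zero_iff]; exact hm
  obtain ⟨q, hq⟩ := CharP.exists (ResidueField R)
  haveI := hq
  have hdvd := (CharP.cast_eq_zero_iff (ResidueField R) q h).1 h0
  rcases CharP.char_is_prime_or_zero (ResidueField R) q with hp | rfl
  · exact hchar q hp hq hdvd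
  · exact hh.ne' (zero_dvd_iff.1 hdvd)

/-- On a regular proper model torsion of invertible order is detected on the closed fibre. -/
theorem eq_one_of_model (hC : Curve.IsSmoothProperCurve (FractionRing R) C f) (hH0 : IsIso f.appTop)
    (hX : Models.IsRegularProperModel R X p C f) (I : X.IdealSheafData)
    (hI : (I.support : Set X) = {x | p x = closedPoint R}) {h : ℕ} (hh : 0 < h)
    (hchar : ∀ q : ℕ, q.Prime → CharP (ResidueField R) q → ¬ q ∣ h)
    {M : X.Modules} (hM : PicF.IsInvertible M) (htors : Nonempty (CohB1.tensorPow M h ≅ Coh.structureModule X))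
    (htriv : Cube.pull I.subschemeι (Cube.clsMod hM) = 1) : Nonempty (M ≅ Coh.structureModule X) := by
  haveI : Flat (Over.mk p).hom := hX.1.1
  haveI : IsProper (Over.mk p).hom := hX.2.1
  haveI : IsProper p := hX.2.1
  obtain ⟨g, hg⟩ := hX.1.2.2.2
  haveI : Nonempty C := hC.2.2.1.nonempty
  obtain ⟨c⟩ := ‹Nonempty C›
  obtain ⟨x₀, -, hx₀⟩ : closedPoint R ∈ p '' closure {g c} :=
    (IsLocalRing.specializes_closedPoint (p (g c))).mem_closed (p.isClosedMap _ isClosed_closure)
      ⟨g c, subset_closure rfl, rfl⟩
  haveI : IsIntegral C := hC.2.2.1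
  have hsur := ArSurf29.toGlobal_surjective (X := Over.mk p) hg hH0
  exact (Cube.clsMod_eq_one_iff hM).1 (eq_one_of_torsion p hsur I hI hx₀ (isUnit_natCast_of_char hh hchar) _
    (by rw [← Cube.clsMod_tensorPow hM]; exact (Cube.clsMod_eq_one_iff _).2 htors) htriv)

/-- The special fibre as a closed subscheme. -/
theorem exists_ideal_specialFibre {M : X.Modules} (hM : PicF.IsInvertible M)
    (htriv : Nonempty ((Scheme.Modules.pullback (pullback.fst p (Spec.map (CommRingCat.ofHom
      (algebraMap R (ResidueField R)))))).obj M ≅ Coh.structureModule (Models.specialFibre R X p))) :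
    ∃ I : X.IdealSheafData, (I.support : Set X) = {x | p x = closedPoint R} ∧
      Cube.pull I.subschemeι (Cube.clsMod hM) = 1 := by
  let g := Spec.map (CommRingCat.ofHom (algebraMap R (ResidueField R)))
  haveI : IsClosedImmersion g := IsClosedImmersion.spec_of_surjective _ residue_surjective
  haveI : IsClosedImmersion (pullback.fst p g) := MorphismProperty.pullback_fst _ _ inferInstance
  let i := pullback.fst p g
  refine ⟨i.ker, ?_, ?_⟩
  · rw [Scheme.Hom.support_ker, i.isClosedEmbedding.isClosed_range.closure_eq, Scheme.Pullback.range_fst]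
    ext x
    refine ⟨fun ⟨y, hy⟩ => ?_, fun hx => ⟨closedPoint _, ?_⟩⟩
    · show p x = closedPoint R
      rw [← hy, Subsingleton.elim y (closedPoint (ResidueField R))]
      exact IsLocalRing.comap_closedPoint (residue R)
    · exact (IsLocalRing.comap_closedPoint (residue R)).trans (Eq.symm hx)
  · have h1 : Cube.pull i (Cube.clsMod hM) = 1 := by
      rw [← Cube.clsMod_pullback i hM]; exact (Cube.clsMod_eq_one_iff _).2 htriv
    rw [show i = i.toImage ≫ i.imageι from i.toImage_imageι.symm, ← Cube.pull_comp] at h1
    have h2 := congrArg (Cube.pull (inv i.toImage)) h1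
    rw [Cube.pull_comp, IsIso.inv_hom_id, Cube.pull_id, map_one] at h2
    exact h2

end GrothLib.TorsPic29
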