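import Mathlib.Dynamics.Newton
import Mathlib.RingTheory.Artinian.Module
import Mathlib.RingTheory.Artinian.Ring
import Mathlib.RingTheory.LocalRing.ResidueField.Basic
import Mathlib.RingTheory.Ideal.GoingUp
import Mathlib.RingTheory.Jacobson.Ideal
import Mathlib.FieldTheory.IsAlgClosed.Basic

/-!
# Roots of units in Artinian algebras with algebraically closed residue field
-/

set_option autoImplicit false
set_option linter.all false

universe u

open Polynomial IsLocalRing

namespace GrothLib.TorsPic29

/-- In an Artinian algebra, integral over a local ring with algebraically closed residue field, units have roots of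
every order which is invertible. -/
theorem exists_pow_eq {A B : Type u} [CommRing A] [IsLocalRing A] [IsAlgClosed (ResidueField A)] [CommRing B]
    [Algebra A B] [Algebra.IsIntegral A B] [IsArtinianRing B] {v : B} (hv : IsUnit v) {h : ℕ}
    (hh : IsUnit (h : A)) : ∃ w : B, w ^ h = v := by
  have hh0 : h ≠ 0 := fun e => by rw [e, Nat.cast_zero] at hh; exact not_isUnit_zero hh
  have hres : ∀ m : Ideal B, m.IsMaximal → ∃ a : A, algebraMap A B a ^ h - v ∈ m ∧ algebraMap A B a ∉ m := by
    intro m hm
    haveI := hm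
    letI : Field (B ⧸ m) := Ideal.Quotient.field m
    have hker : RingHom.ker ((Ideal.Quotient.mk m).comp (algebraMap A B)) = maximalIdeal A := by
      rw [← RingHom.comap_ker, Ideal.mk_ker]
      exact IsLocalRing.eq_maximalIdeal (Ideal.isMaximal_comap_of_isIntegral_of_isMaximal m)
    let σ : ResidueField A →+* B ⧸ m := Ideal.Quotient.lift (maximalIdeal A) ((Ideal.Quotient.mk m).comp (algebraMap A B))
      fun a ha => RingHom.mem_ker.1 (hker.ge ha)
    letI : Algebra (ResidueField A) (B ⧸ m) := σ.toAlgebra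
    haveI : Algebra.IsIntegral (ResidueField A) (B ⧸ m) := ⟨fun x => by
      obtain ⟨b, rfl⟩ := Ideal.Quotient.mk_surjective x
      obtain ⟨P, hP, hb⟩ := Algebra.IsIntegral.isIntegral (R := A) b
      refine ⟨P.map (residue A), hP.map _, ?_⟩
      rw [Polynomial.eval₂_map]
      show Polynomial.eval₂ ((Ideal.Quotient.mk m).comp (algebraMap A B)) (Ideal.Quotient.mk m b) P = 0
      rw [← Polynomial.hom_eval₂, hb, map_zero]⟩
    obtain ⟨r, hr⟩ := IsAlgClosed.algebraMap_bijective_of_isIntegral (k := ResidueField A) (K := B ⧸ m) |>.2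
      (Ideal.Quotient.mk m v)
    obtain ⟨s, hs⟩ := IsAlgClosed.exists_pow_nat_eq r (Nat.pos_of_ne_zero hh0)
    obtain ⟨a, rfl⟩ := residue_surjective s
    have e : Ideal.Quotient.mk m (algebraMap A B a ^ h) = Ideal.Quotient.mk m v := by
      rw [← hr, ← hs, map_pow]
      exact (map_pow σ (residue A a) h).symm
    refine ⟨a, Ideal.Quotient.eq.1 e, fun ha => hm.ne_top ?_⟩
    exact m.eq_top_of_isUnit_mem (by
      have := sub_mem (Ideal.pow_mem_of_mem m ha h (Nat.pos_of_ne_zero hh0)) (Ideal.Quotient.eq.1 e)
      rwa [sub_sub_cancel] at this) hv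
  choose a ha ha' using hres
  haveI : Fintype (MaximalSpectrum B) := Fintype.ofFinite _
  obtain ⟨x, hx⟩ := Ideal.exists_forall_sub_mem_ideal
    (I := fun m : MaximalSpectrum B => m.asIdeal)
    (fun i j hij => Ideal.isCoprime_iff_sup_eq.2
      (i.isMaximal.coprime_of_ne j.isMaximal fun e => hij (MaximalSpectrum.ext e)))
    fun m => algebraMap A B (a m.asIdeal m.isMaximal)
  have hnil : IsNilpotent (aeval x ((Polynomial.X : B[X]) ^ h - Polynomial.C v)) := by
    rw [map_sub, map_pow, aeval_X, aeval_C, Algebra.algebraMap_self_apply, ← mem_nilradical, nilradical_eq_sInf,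
      Ideal.mem_sInf]
    intro p hp
    haveI : p.IsPrime := hp
    have hpm : p.IsMaximal := IsArtinianRing.isMaximal_of_isPrime p
    have h1 : x - algebraMap A B (a p hpm) ∈ p := hx ⟨p, hpm⟩
    have h2 : x ^ h - algebraMap A B (a p hpm) ^ h ∈ p :=
      p.mem_of_dvd (sub_dvd_pow_sub_pow _ _ h) h1
    have := add_mem h2 (ha p hpm)
    rwa [sub_add_sub_cancel] at this
  have hunit : IsUnit (aeval x (derivative ((Polynomial.X : B[X]) ^ h - Polynomial.C v))) := by
    rw [derivative_sub, derivative_X_pow, derivative_C, sub_zero, map_mul, aeval_C, map_pow, aeval_X,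
      Algebra.algebraMap_self_apply]
    refine IsUnit.mul (by simpa using hh.map (algebraMap A B)) (IsUnit.pow _ ?_)
    by_contra hnx
    obtain ⟨m, hm, hxm⟩ := exists_max_ideal_of_mem_nonunits hnx
    exact ha' m hm (by have := sub_mem hxm (hx ⟨m, hm⟩); rwa [sub_sub_cancel] at this)
  obtain ⟨w, ⟨-, hw⟩, -⟩ := existsUnique_nilpotent_sub_and_aeval_eq_zero hnil hunit
  rw [map_sub, map_pow, aeval_X, aeval_C, Algebra.algebraMap_self_apply, sub_eq_zero] at hw
  exact ⟨w, hw⟩

end GrothLib.TorsPic29
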