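import Groth.Agent.Lib.PicH1.Thick
import Groth.Agent.Lib.GVanish.Main
import Groth.Agent.Lib.UnitsThick26.Seq

/-!
# Roots of Picard classes from roots of units, on spaces of dimension at most one
-/

set_option autoImplicit false
set_option linter.all false
set_option backward.isDefEq.respectTransparency false

universe u

open CategoryTheory CategoryTheory.Limits AlgebraicGeometry TopologicalSpace Opposite
open GrothLib.UnitsThick26 GrothLib.PicH1

noncomputable section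

namespace GrothLib.TorsPic29

theorem exists_ker_app {T : TopCat.{u}} {F G : CohTop.Ab T} (φ : F ⟶ G) (V : Opens T) (a : F.obj.obj (op V))
    (ha : φ.hom.app (op V) a = 0) : ∃ k, (kernel.ι φ).hom.app (op V) k = a := by
  let E := sheafToPresheaf (Opens.grothendieckTopology T) AddCommGrpCat.{u} ⋙ (evaluation _ _).obj (op V)
  haveI : PreservesLimits E := comp_preservesLimits _ _
  haveI : PreservesLimitsOfSize.{0, 0} E := preservesLimitsOfSize_shrink.{0, u, 0, u} _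
  haveI : E.PreservesZeroMorphisms := ⟨fun A B => rfl⟩
  let e := PreservesKernel.iso E φ ≪≫ AddCommGrpCat.kernelIsoKer (E.map φ)
  refine ⟨e.inv ⟨a, ha⟩, ?_⟩
  have h1 : e.inv ≫ E.map (kernel.ι φ) = AddCommGrpCat.ofHom (AddSubgroup.subtype _) := by
    simp only [e, Iso.trans_inv, Category.assoc, PreservesKernel.iso_inv_ι]
    exact AddCommGrpCat.kernelIsoKer_inv_comp_ι _
  exact ConcreteCategory.congr_hom h1 ⟨a, ha⟩

theorem HGmap_comp' {T : TopCat.{u}} {F G H : CohTop.Ab T} (f : F ⟶ G) (g : G ⟶ H) (n : ℕ) (x : HG F n) :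
    HGmap (f ≫ g) n x = HGmap g n (HGmap f n x) := Sheaf.H.map_comp_apply f g x

theorem HGmap_nsmul_id {T : TopCat.{u}} (F : CohTop.Ab T) (q n : ℕ) (x : HG F n) :
    HGmap (q • 𝟙 F) n x = q • x := by
  induction q with
  | zero =>
    rw [zero_smul, zero_smul]
    show Abelian.Ext.comp x (Abelian.Ext.mk₀ (0 : F ⟶ F)) (add_zero n) = 0
    rw [Abelian.Ext.mk₀_zero, Abelian.Ext.comp_zero]
  | succ q ih =>
    rw [succ_nsmul, succ_nsmul, ← ih]
    show Abelian.Ext.comp x (Abelian.Ext.mk₀ (q • 𝟙 F + 𝟙 F)) (add_zero n) = _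
    rw [Abelian.Ext.mk₀_add, Abelian.Ext.comp_add, Abelian.Ext.comp_mk₀_id]
    rfl

theorem nsmul_id_app {T : TopCat.{u}} (F : CohTop.Ab T) (q : ℕ) (V : (Opens T)ᵒᵖ) (s : F.obj.obj V) :
    (q • 𝟙 F : F ⟶ F).hom.app V s = q • s := by
  induction q with
  | zero => rw [zero_smul, zero_smul]; rfl
  | succ q ih => rw [succ_nsmul, succ_nsmul, ← ih]; rfl

theorem surjective_HGmap_of_epi {T : TopCat.{u}} [NoetherianSpace T] (hd : topologicalKrullDim T ≤ 1)
    {F G : CohTop.Ab T} (φ : F ⟶ G) [Epi φ] : Function.Surjective (HGmap φ 1) := by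
  have hS : (ShortComplex.mk (kernel.ι φ) φ (kernel.condition φ)).ShortExact :=
    { exact := ShortComplex.exact_kernel φ }
  exact surjective_map_g hS 1 (GVanish.subsingleton_H_of_krullDim_le 1 hd (kernel φ) 2 one_lt_two)

/-- Classes lift along square zero thickenings in dimension at most one. -/
theorem pull_surjective_of_sqZero {Z X : Scheme.{u}} [NoetherianSpace X] (hd : topologicalKrullDim X ≤ 1)
    (c : Z ⟶ X) [IsClosedImmersion c] (hc : IsSqZero c) : Function.Surjective (Cube.pull c) := fun z => by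
  obtain ⟨x, rfl⟩ := (toPicPushHG_bijective c).2 z
  haveI : Epi (UnitsSh.comap c) := (thickSeq_shortExact hc).epi_g
  obtain ⟨y, hy⟩ := surjective_HGmap_of_epi hd (UnitsSh.comap c) x.toAdd
  exact ⟨toPicHG X (Multiplicative.ofAdd y),
    (toPicPushHG_comap c (Multiplicative.ofAdd y)).symm.trans (congrArg _ (congrArg Multiplicative.ofAdd hy))⟩

/-- If units which are `1` on `Z₂` have `q`-th roots which are `1` on `Z₁`, the same holds for classes. -/
theorem exists_root_of_units {Z₁ Z₂ X : Scheme.{u}} [NoetherianSpace X] (hd : topologicalKrullDim X ≤ 1)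
    (c₁ : Z₁ ⟶ X) (c₂ : Z₂ ⟶ X) [IsClosedImmersion c₂] (hc₂ : IsSqZero c₂) (q : ℕ)
    (hkill : ∀ W : X.Opens, IsAffineOpen W → ∀ v : Γ(X, W), c₁.app W v = 1 → c₂.app W (v ^ q) = 1)
    (hlift : ∀ W : X.Opens, IsAffineOpen W → ∀ u : (Γ(X, W))ˣ, c₂.app W (u : Γ(X, W)) = 1 →
      ∃ v : (Γ(X, W))ˣ, c₁.app W (v : Γ(X, W)) = 1 ∧ v ^ q = u)
    (x : Cube.Pic X) (hx : Cube.pull c₂ x = 1) : ∃ z, Cube.pull c₁ z = 1 ∧ z ^ q = x := by
  obtain ⟨x, rfl⟩ := (toPicHG_bijective X).2 x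
  rw [← toPicPushHG_comap] at hx
  have h' : HGmap (UnitsSh.comap c₂) 1 x.toAdd = 0 :=
    congrArg Multiplicative.toAdd (toPicPushHG_injective c₂ (hx.trans (map_one _).symm))
  let ι₁ := kernel.ι (UnitsSh.comap c₁)
  let ι₂ := kernel.ι (UnitsSh.comap c₂)
  have h0 : (ι₁ ≫ (q • 𝟙 (UnitsSh.unitsAb X))) ≫ UnitsSh.comap c₂ = 0 := by
    apply Sheaf.hom_ext
    ext V (k : (kernel (UnitsSh.comap c₁)).obj.obj V)
    let v : (Γ(X, V.unop))ˣ := UnitsSh.unitOfSect (O := X.presheaf) (ι₁.hom.app V k)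
    have hv : c₁.app V.unop (v : Γ(X, V.unop)) = 1 :=
      congrArg (fun s : (UnitsSh.pre Z₁.presheaf).obj (op (c₁ ⁻¹ᵁ V.unop)) =>
        ((UnitsSh.unitOfSect s : (Γ(Z₁, c₁ ⁻¹ᵁ V.unop))ˣ) : Γ(Z₁, c₁ ⁻¹ᵁ V.unop)))
        (ConcreteCategory.congr_hom (congrArg (fun t : kernel (UnitsSh.comap c₁) ⟶ _ => t.hom.app V)
          (kernel.condition (UnitsSh.comap c₁))) k)
    show (UnitsSh.comap c₂).hom.app V ((q • 𝟙 (UnitsSh.unitsAb X) : _ ⟶ _).hom.app V (ι₁.hom.app V k)) = 0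
    rw [nsmul_id_app]
    refine congrArg UnitsSh.sectOfUnit (Units.ext ?_)
    show c₂.app V.unop (((v ^ q : (Γ(X, V.unop))ˣ)) : Γ(X, V.unop)) = 1
    rw [Units.val_pow_eq_pow_val]
    refine TopCat.Sheaf.eq_of_locally_eq' Z₂.sheaf (fun W : {W : X.Opens // IsAffineOpen W ∧ W ≤ V.unop} => c₂ ⁻¹ᵁ W.1)
      (c₂ ⁻¹ᵁ V.unop) (fun W => homOfLE (c₂.preimage_mono W.2.2)) (fun z hz => ?_) _ _ fun W => ?_
    · obtain ⟨W, hW, hzW, hWV⟩ := exists_isAffineOpen_mem_and_subset (x := c₂ z) (U := V.unop) hz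
      exact Opens.mem_iSup.2 ⟨⟨W, hW, hWV⟩, hzW⟩
    · have e2 := ConcreteCategory.congr_hom (c₂.naturality (homOfLE W.2.2).op) ((v : Γ(X, V.unop)) ^ q)
      have e1 := ConcreteCategory.congr_hom (c₁.naturality (homOfLE W.2.2).op) (v : Γ(X, V.unop))
      refine e2.symm.trans (Eq.trans ?_ (map_one (Z₂.presheaf.map _).hom).symm)
      show c₂.app W.1 (X.presheaf.map _ ((v : Γ(X, V.unop)) ^ q)) = 1
      rw [map_pow (X.presheaf.map _).hom]
      refine hkill W.1 W.2.1 _ (e1.trans ?_)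
      show (Z₁.presheaf.map _) (c₁.app V.unop (v : Γ(X, V.unop))) = 1
      rw [hv, map_one]
  let ψ := kernel.lift (UnitsSh.comap c₂) _ h0
  haveI : Epi ψ := by
    rw [← Sheaf.isLocallySurjective_iff_epi']
    refine ⟨fun {V} k z hz => ?_⟩
    obtain ⟨W, hW, hzW, hWV⟩ := exists_isAffineOpen_mem_and_subset (x := z) (U := V) hz
    refine ⟨W, homOfLE hWV, ?_, hzW⟩
    let k' := (kernel (UnitsSh.comap c₂)).obj.map (homOfLE (show W ≤ V from hWV)).op k
    have hk : (UnitsSh.comap c₂).hom.app (op W) (ι₂.hom.app (op W) k') = 0 :=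
      ConcreteCategory.congr_hom (congrArg (fun t : kernel (UnitsSh.comap c₂) ⟶ _ => t.hom.app (op W))
        (kernel.condition (UnitsSh.comap c₂))) k'
    obtain ⟨v, hv1, hv2⟩ := hlift W hW (UnitsSh.unitOfSect (O := X.presheaf) (ι₂.hom.app (op W) k'))
      (congrArg (fun s : (UnitsSh.pre Z₂.presheaf).obj (op (c₂ ⁻¹ᵁ W)) =>
        ((UnitsSh.unitOfSect s : (Γ(Z₂, c₂ ⁻¹ᵁ W))ˣ) : Γ(Z₂, c₂ ⁻¹ᵁ W))) hk)
    obtain ⟨l, hl⟩ := exists_ker_app (UnitsSh.comap c₁) W (UnitsSh.sectOfUnit (O := X.presheaf) v)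
      (congrArg UnitsSh.sectOfUnit (Units.ext hv1))
    refine ⟨l, ?_⟩
    have hinj : Function.Injective (ι₂.hom.app (op W)) := by
      let E := sheafToPresheaf (Opens.grothendieckTopology X.toTopCat) AddCommGrpCat.{u} ⋙ (evaluation _ _).obj (op W)
      haveI : PreservesLimits E := comp_preservesLimits _ _
      haveI : PreservesLimitsOfSize.{0, 0} E := preservesLimitsOfSize_shrink.{0, u, 0, u} _
      exact (AddCommGrpCat.mono_iff_injective _).1 (inferInstance : Mono (E.map ι₂))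
    refine hinj ?_
    rw [show ι₂.hom.app (op W) (ψ.hom.app (op W) l) = (ι₁ ≫ (q • 𝟙 (UnitsSh.unitsAb X))).hom.app (op W) l from
      ConcreteCategory.congr_hom (congrArg (fun t : kernel (UnitsSh.comap c₁) ⟶ _ => t.hom.app (op W))
        (kernel.lift_ι (UnitsSh.comap c₂) _ h0)) l]
    show (q • 𝟙 (UnitsSh.unitsAb X) : _ ⟶ _).hom.app (op W) (ι₁.hom.app (op W) l) = _
    rw [nsmul_id_app, hl]
    exact congrArg UnitsSh.sectOfUnit hv2
  obtain ⟨(h : HG (Coh.toAb (kerMod c₂)) 1), hh⟩ := (HG_exact₂ (thickSeq_shortExact hc₂) 1 x.toAdd).1 h'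
  let κ := kernel.lift (UnitsSh.comap c₂) (oneAdd hc₂) (oneAdd_comap hc₂)
  obtain ⟨w, hw⟩ := surjective_HGmap_of_epi hd ψ (HGmap κ 1 h)
  refine ⟨toPicHG X (Multiplicative.ofAdd (HGmap ι₁ 1 w)), ?_, ?_⟩
  · rw [← toPicPushHG_comap]
    refine (congrArg _ (congrArg Multiplicative.ofAdd ?_)).trans (map_one _)
    show HGmap (UnitsSh.comap c₁) 1 (HGmap ι₁ 1 w) = 0
    rw [← HGmap_comp', kernel.condition]
    show Abelian.Ext.comp w (Abelian.Ext.mk₀ _) (add_zero 1) = 0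
    rw [Abelian.Ext.mk₀_zero, Abelian.Ext.comp_zero]
  · refine (map_pow (toPicHG X) _ q).symm.trans (congrArg _ (Multiplicative.toAdd.injective ?_))
    show q • HGmap ι₁ 1 w = x.toAdd
    rw [← HGmap_nsmul_id, ← HGmap_comp', ← kernel.lift_ι (UnitsSh.comap c₂) _ h0, HGmap_comp', hw, ← HGmap_comp',
      kernel.lift_ι]
    exact hh

end GrothLib.TorsPic29
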